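import Cfsg.Agent.H763.Wk.USixRank
import Cfsg.Agent.SigZeroCo2.Final
import Cfsg.Agent.Lib.Cores

/-!
# S4095, `Co2`: `O_2(C(x)) = 1` for the elements `x` of order three (helper763)

The 2-local subgroups have 3-rank at most three, the centralizers of elements of order three have 3-rank at least four.
-/

set_option autoImplicit false

namespace Cfsg.Agent.H763.Wk.CoTwo

open Cfsg Subgroup Cfsg.Agent.Sigma.Tools Cfsg.Agent.CpAutCoTwo Cfsg.Agent.CpAutCoTwo.Setup

theorem pRank_cent {G K : Type*} [Group G] [Group K] {p k : ℕ} (f : G →* K) (hf : Function.Injective f) {x : G}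
    (h : PRankAtLeast p k ↥(centralizer ({x} : Set G))) : PRankAtLeast p k ↥(centralizer ({f x} : Set K)) := by
  let g : ↥(centralizer ({x} : Set G)) →* ↥(centralizer ({f x} : Set K)) :=
    (f.comp (centralizer ({x} : Set G)).subtype).codRestrict _ (fun c => by
      rw [mem_centralizer_singleton_iff]
      have h1 := mem_centralizer_singleton_iff.1 c.2
      show f c * f x = f x * f c
      rw [← map_mul, h1, map_mul])
  refine pRankAtLeast_of_injective g ?_ h
  intro a b hab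
  exact Subtype.ext (hf (congrArg Subtype.val hab))

/-- `O_2(C(x)) = 1` from the 2-local rank -/
theorem pCore_eq_bot {G : Type*} [Group G] [Finite G] {p k : ℕ} (hp : p.Prime) (h : TwoLocalPRankLE p k G) {x : G}
    (hr : PRankAtLeast p (k + 1) ↥(centralizer ({x} : Set G))) : pCore 2 ↥(centralizer ({x} : Set G)) = ⊥ := by
  by_contra hne
  let C := centralizer ({x} : Set G)
  let R : Subgroup G := (pCore 2 ↥C).map C.subtype
  have hR2 : IsPGroup 2 R := (Lib.Cores.pCore_isPGroup (G := ↥C) 2).map _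
  have hR1 : R ≠ ⊥ := by
    intro h1
    apply hne
    exact (Subgroup.map_eq_bot_iff_of_injective _ C.subtype_injective).1 h1
  have hn := Lib.Cores.pCore_normal (G := ↥C) 2
  have hCR : C ≤ normalizer (R : Set G) := by
    intro c hc
    rw [mem_normalizer_iff]
    intro g
    constructor
    · rintro ⟨r, hr, rfl⟩
      exact ⟨⟨c, hc⟩ * r * ⟨c, hc⟩⁻¹, hn.conj_mem r hr ⟨c, hc⟩, rfl⟩
    · rintro ⟨r, hr, hr'⟩
      refine ⟨⟨c, hc⟩⁻¹ * r * ⟨c, hc⟩⁻¹⁻¹, hn.conj_mem r hr ⟨c, hc⟩⁻¹, ?_⟩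
      have h1 : (r : G) = c * g * c⁻¹ := hr'
      show c⁻¹ * (r : G) * c⁻¹⁻¹ = g
      rw [h1]
      group
  have h1 := h (normalizer (R : Set G)) ⟨R, hR2, hR1, rfl⟩
  obtain ⟨A, hA, hAp, hAc⟩ := pRankAtLeast_of_injective (inclusion hCR) (inclusion_injective hCR) hr
  have h2 := h1 A hA hAp
  have h3 : p ^ k < p ^ (k + 1) := Nat.pow_lt_pow_right hp.one_lt (Nat.lt_succ_self k)
  omega

/-- **The centralizers of elements of order three have 3-rank at least four.** -/
theorem rank_three {x : Spor.Co2} (hx : orderOf x = 3) : PRankAtLeast 3 4 ↥(centralizer ({x} : Set Spor.Co2)) := by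
  let e2 := Cfsg.Agent.Schreier.CoTwoStab.equivU
  let y : ↥(MulAction.stabilizer Co0 Spor.leechU) := e2.symm x
  have hy3 : orderOf (y : Co0) = 3 := by
    rw [Subgroup.orderOf_coe]
    exact (MulEquiv.orderOf_eq e2.symm x).trans hx
  have hyu : (y : Co0) • Spor.leechU = Spor.leechU := y.2
  have h3 : (y : Co0) * y * y = 1 := by
    have h1 : (y : Co0) ^ 3 = 1 := by rw [← hy3, pow_orderOf_eq_one]
    rw [pow_succ, pow_two] at h1
    exact h1
  obtain ⟨w, hw⟩ := om_nonempty Lp.norm_u h3 hyu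
  obtain ⟨F, _, _, hF⟩ := exists_field
  obtain ⟨e⟩ := S1577.result Spor.leechU w Lp.norm_u hw.1 hw.2.1 F hF
  have hyS : (y : Co0) ∈ MulAction.stabilizer Co0 Spor.leechU ⊓ MulAction.stabilizer Co0 w :=
    ⟨y.2, MulAction.mem_stabilizer_iff.2 hw.2.2⟩
  have h4 : (e ⟨y, hyS⟩) ^ 3 = 1 := by
    rw [← map_pow]
    have h5 : (⟨y, hyS⟩ : ↥(MulAction.stabilizer Co0 Spor.leechU ⊓ MulAction.stabilizer Co0 w)) ^ 3 = 1 :=
      Subtype.ext (by rw [Subgroup.coe_pow, ← hy3, pow_orderOf_eq_one]; rfl)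
    rw [h5, map_one]
  have h5 := USix.rank_cent (by rw [hF]; norm_num) h4
  have h6 := pRank_cent e.symm.toMonoidHom e.symm.injective h5
  have h7 : e.symm.toMonoidHom (e ⟨y, hyS⟩) = ⟨y, hyS⟩ := e.symm_apply_apply _
  rw [h7] at h6
  have hle : MulAction.stabilizer Co0 Spor.leechU ⊓ MulAction.stabilizer Co0 w ≤
    MulAction.stabilizer Co0 Spor.leechU := inf_le_left
  have h8 := pRank_cent (e2.toMonoidHom.comp (inclusion hle)) (e2.injective.comp (inclusion_injective hle)) h6
  have h9 : (e2.toMonoidHom.comp (inclusion hle)) ⟨y, hyS⟩ = x := e2.apply_symm_apply x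
  rw [h9] at h8
  exact h8

/-- **`O_2(C(x)) = 1` for the elements of order three.** -/
theorem core_three [Finite Spor.Co2] {x : Spor.Co2} (hx : orderOf x = 3) :
    pCore 2 ↥(centralizer ({x} : Set Spor.Co2)) = ⊥ :=
  pCore_eq_bot (p := 3) (k := 3) Nat.prime_three SigZeroCo2.Final.twoLocal (rank_three hx)

end Cfsg.Agent.H763.Wk.CoTwo
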