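import Cfsg.Agent.H763.Wk.CoTwoThree
import Cfsg.Agent.BpSpor.CoTwoFive
import Cfsg.Agent.H149.Sp.CopCoInv

/-!
# S4095, `Co2`: `O_2(C(x)) = 1` for the elements `x` of order five (helper763)
-/

set_option autoImplicit false

namespace Cfsg.Agent.H763.Wk.CoTwo

open Cfsg Cfsg.Spor Subgroup Module
open Cfsg.Agent.BpSpor.Co2.Five
open Cfsg.Agent.SigZeroCo2.Rank (fix mem_fix)
open Cfsg.Agent.SigZeroCo2.Lin (rep Sp)
open Cfsg.Agent.PreUniqCo Cfsg.Agent.PreUniqCo.FixBound Cfsg.Agent.PreUniqCo.LatCo
open Cfsg.Agent.CpAutCoFive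
open Cfsg.Agent.CpAutCoTwo.Setup (Hs mem_Hs dot_co0)
open Cfsg.Agent.H149.Sp.CopCo (f2 f2_inj f2_fix finite_co2 co2_2_5)

/-- in a group with `p ^ 3 ∣ |G|`-ish Sylow subgroups: the centralizer of an element of order `p` -/
theorem sq_dvd {G : Type*} [Group G] [Finite G] {p : ℕ} [hp : Fact p.Prime] (h2 : p ^ 2 ∣ Nat.card G) {x : G}
    (hx : orderOf x = p) : p ^ 2 ∣ Nat.card ↥(centralizer ({x} : Set G)) := by
  have hz : IsPGroup p ↥(zpowers x) := IsPGroup.of_card (n := 1) (by rw [Nat.card_zpowers, hx, pow_one])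
  obtain ⟨P, hP⟩ := hz.exists_le_sylow
  have hxP : x ∈ (P : Subgroup G) := hP (mem_zpowers x)
  have hPc : p ^ 2 ∣ Nat.card ↥(P : Subgroup G) := P.pow_dvd_card_of_pow_dvd_card h2
  have hPp : IsPGroup p ↥(P : Subgroup G) := P.isPGroup'
  by_cases hcen : ∀ g ∈ (P : Subgroup G), g * x = x * g
  · have h1 : (P : Subgroup G) ≤ centralizer ({x} : Set G) := fun g hg => mem_centralizer_singleton_iff.2 (hcen g hg)
    exact hPc.trans (card_dvd_of_le h1)
  · -- a central element outside `⟨x⟩`
    have hnt : Nontrivial ↥(P : Subgroup G) := by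
      rw [← Finite.one_lt_card_iff_nontrivial]
      exact lt_of_lt_of_le (Nat.one_lt_pow (by norm_num) hp.out.one_lt) (Nat.le_of_dvd Nat.card_pos hPc)
    have hZ : Nontrivial (center ↥(P : Subgroup G)) := hPp.center_nontrivial
    obtain ⟨z, hz1⟩ := exists_ne (1 : center ↥(P : Subgroup G))
    have hzx : ((z : ↥(P : Subgroup G)) : G) ∉ zpowers x := by
      intro hzm
      apply hcen
      -- `x` is a power of `z`
      have h1 : zpowers ((z : ↥(P : Subgroup G)) : G) = zpowers x := by
        have h2 : zpowers ((z : ↥(P : Subgroup G)) : G) ≤ zpowers x := zpowers_le.2 hzm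
        have h3 : Nat.card (zpowers ((z : ↥(P : Subgroup G)) : G)) ∣ p := by
          have := card_dvd_of_le h2
          rwa [Nat.card_zpowers, Nat.card_zpowers, hx, ← Nat.card_zpowers] at this
        rcases (Nat.dvd_prime hp.out).1 h3 with h4 | h4
        · exfalso
          apply hz1
          rw [Nat.card_zpowers, orderOf_eq_one_iff] at h4
          exact Subtype.ext (Subtype.ext h4)
        · exact eq_of_le_of_card_ge h2 (by rw [h4, Nat.card_zpowers, hx])
      have h2 : x ∈ zpowers ((z : ↥(P : Subgroup G)) : G) := by rw [h1]; exact mem_zpowers x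
      obtain ⟨k, hk⟩ := h2
      intro g hg
      have h3 := mem_center_iff.1 z.2 ⟨g, hg⟩
      have h4 : g * ((z : ↥(P : Subgroup G)) : G) = ((z : ↥(P : Subgroup G)) : G) * g := congrArg Subtype.val h3
      rw [← hk]
      exact (Commute.zpow_right (show Commute g _ from h4) k).eq
    let A : Subgroup G := zpowers x ⊔ zpowers ((z : ↥(P : Subgroup G)) : G)
    have hAP : A ≤ (P : Subgroup G) := sup_le (zpowers_le.2 hxP) (zpowers_le.2 (z : ↥(P : Subgroup G)).2)
    have hAC : A ≤ centralizer ({x} : Set G) := by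
      refine sup_le (zpowers_le.2 (mem_centralizer_singleton_iff.2 rfl)) (zpowers_le.2 ?_)
      rw [mem_centralizer_singleton_iff]
      have h3 := mem_center_iff.1 z.2 ⟨x, hxP⟩
      exact (congrArg Subtype.val h3).symm
    obtain ⟨n, hn⟩ := (hPp.to_le hAP).exists_card_eq
    have hlt : zpowers x < A := by
      refine lt_of_le_of_ne le_sup_left fun h => hzx ?_
      rw [h]
      exact (le_sup_right : zpowers _ ≤ A) (mem_zpowers _)
    have h1 : p < Nat.card A := by
      have h2 : Nat.card (zpowers x) < Nat.card A := by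
        refine lt_of_le_of_ne (card_le_of_le hlt.le) fun h => hlt.ne ?_
        exact eq_of_le_of_card_ge hlt.le h.symm.le
      rwa [Nat.card_zpowers, hx] at h2
    have h2 : 2 ≤ n := by
      by_contra hcon
      rw [hn] at h1
      have h3 : p ^ n ≤ p ^ 1 := Nat.pow_le_pow_right hp.out.pos (by omega)
      rw [pow_one] at h3
      omega
    exact (pow_dvd_pow p h2).trans (hn ▸ card_dvd_of_le hAC)

section

variable {H : Type*} [Group H] [Finite H] {φ : H →* Co0} {v : leechLattice} {x : H}

/-- `h` acts trivially on the fixed space of `x` if `h ^ 5` does and this space has dimension four -/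
theorem triv_of_four (hv : v ≠ 0) (hfix : ∀ h, φ h • v = v) (hc : ∀ g, g * x = x * g)
    (h4 : finrank ℚ (fix (rep (φ x))) = 4) {h : H} (h5 : h ^ 5 ∈ zpowers x) :
    ∀ u ∈ fix (rep (φ x)), rep (φ h) u = u := by
  have h5' : (actFix φ x hc h) ^ 5 = 1 := by
    rw [← map_pow]
    refine LinearMap.ext fun u => Subtype.ext ?_
    rw [actFix_apply]
    obtain ⟨k, hk⟩ := h5
    have h6 := fix_le_pow (φ := φ) (y := x) k u.2
    have h7 : x ^ k = h ^ 5 := hk
    rw [h7] at h6
    exact mem_fix.1 h6
  have h1 := dvd_finrank_mv (V := fix (rep (φ x))) (r := 5) (by norm_num) h5'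
  have h2 := finrank_add (V := fix (rep (φ x))) (r := 5) (by norm_num) h5'
  have h3 : finrank ℚ (fix (actFix φ x hc h)) ≠ 0 := by
    intro h0
    have h6 : (⟨tau v, mem_fix_tau.2 (hfix x)⟩ : fix (rep (φ x))) ∈ fix (actFix φ x hc h) := by
      rw [mem_fix]
      apply Subtype.ext
      rw [actFix_apply, rep_tau, hfix h]
    rw [Submodule.finrank_eq_zero.1 h0, Submodule.mem_bot] at h6
    exact hv (tau_injective ((congrArg Subtype.val h6).trans (map_zero FixBound.tau).symm))
  have h6 : fix (actFix φ x hc h) = ⊤ := Submodule.eq_top_of_finrank_eq (by omega)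
  intro u hu
  have h8 : (⟨u, hu⟩ : fix (rep (φ x))) ∈ fix (actFix φ x hc h) := by rw [h6]; trivial
  exact congrArg Subtype.val (mem_fix.1 h8)

end

/-- **`O_2(C(x)) = 1` for the elements of order five.** -/
theorem core_five {x : Spor.Co2} (hx : orderOf x = 5) : pCore 2 ↥(centralizer ({x} : Set Spor.Co2)) = ⊥ := by
  classical
  have hfin := finite_co2
  have h5f : Fact (Nat.Prime 5) := ⟨by norm_num⟩
  have hcard : Nat.card Spor.Co2 = 42305421312000 := Cfsg.Agent.Schreier.CoTwoStab.card
  have h25 : 5 ^ 2 ∣ Nat.card ↥(centralizer ({x} : Set Spor.Co2)) := sq_dvd (by rw [hcard]; norm_num) hx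
  by_contra hne
  obtain ⟨H, hH⟩ : ∃ H, H = centralizer ({x} : Set Spor.Co2) := ⟨_, rfl⟩
  rw [← hH] at h25 hne
  have hxH : x ∈ H := by rw [hH, mem_centralizer_singleton_iff]
  have hcH : ∀ g ∈ H, g * x = x * g := fun g hg => by
    rw [hH] at hg
    exact mem_centralizer_singleton_iff.1 hg
  let φ : H →* Co0 := f2.comp H.subtype
  have hφ : Function.Injective φ := f2_inj.comp H.subtype_injective
  let c : H := ⟨x, hxH⟩
  have hcc : ∀ g : H, g * c = c * g := fun g => Subtype.ext (hcH g g.2)
  have hc5 : orderOf c = 5 := (Subgroup.orderOf_mk x hxH).trans hx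
  have hv : Spor.leechU ≠ 0 := ne_zero_of_norm norm_leechU
  have hfix : ∀ h, φ h • Spor.leechU = Spor.leechU := fun h => f2_fix h
  -- a 5-element `y` outside `⟨c⟩` with `y ^ 5 ∈ ⟨c⟩`
  obtain ⟨P0⟩ : Nonempty (Sylow 5 H) := inferInstance
  have hcP : c ∈ (P0 : Subgroup H) := by
    have h1 : IsPGroup 5 ↥(zpowers c) := IsPGroup.of_card (n := 1) (by rw [Nat.card_zpowers, hc5, pow_one])
    have h2 : (zpowers c).Normal := by
      refine ⟨fun n hn g => ?_⟩
      obtain ⟨k, rfl⟩ := hn
      have h3 : g * c ^ k * g⁻¹ = c ^ k := by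
        rw [(Commute.zpow_right (show Commute g c from hcc g) k).eq, mul_inv_cancel_right]
      exact ⟨k, h3.symm⟩
    have h3 : zpowers c ≤ (P0 : Subgroup H) := by
      have h4 : (P0 : Subgroup H) ⊔ zpowers c = P0 := by
        refine (P0.is_maximal' ?_ le_sup_left)
        exact P0.isPGroup'.to_sup_of_normal_right h1
      rw [← h4]
      exact le_sup_right
    exact h3 (mem_zpowers c)
  have hPc : 5 ^ 2 ∣ Nat.card ↥(P0 : Subgroup H) := P0.pow_dvd_card_of_pow_dvd_card h25
  obtain ⟨y, hyP, hyc, hy5⟩ : ∃ y ∈ (P0 : Subgroup H), y ∉ zpowers c ∧ y ^ 5 ∈ zpowers c := by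
    by_contra hcon
    push Not at hcon
    -- every element of `P0` is in `⟨c⟩`
    have key : ∀ n : ℕ, ∀ y ∈ (P0 : Subgroup H), y ^ 5 ^ n ∈ zpowers c → y ∈ zpowers c := by
      intro n
      induction n with
      | zero => intro y _ h; rwa [pow_zero, pow_one] at h
      | succ n ih =>
        intro y hy h
        rw [pow_succ, pow_mul] at h
        by_contra h1
        have h2 : y ^ 5 ^ n ∈ (P0 : Subgroup H) := pow_mem hy _
        by_cases h3 : y ^ 5 ^ n ∈ zpowers c
        · exact h1 (ih y hy h3)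
        · exact hcon _ h2 h3 h
    have h1 : (P0 : Subgroup H) ≤ zpowers c := by
      intro y hy
      obtain ⟨n, hn⟩ := P0.isPGroup' ⟨y, hy⟩
      have h2 : y ^ 5 ^ n = 1 := congrArg Subtype.val hn
      exact key n y hy (by rw [h2]; exact one_mem _)
    have h2 := Nat.le_of_dvd (by rw [Nat.card_zpowers]; exact orderOf_pos c) (hPc.trans (card_dvd_of_le h1))
    rw [Nat.card_zpowers, hc5] at h2
    norm_num at h2
  obtain ⟨S, hS⟩ : ∃ S, S = pCore 2 H := ⟨_, rfl⟩
  rw [← hS] at hne
  have hSn : S.Normal := by rw [hS]; exact Lib.Cores.pCore_normal (G := H) 2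
  have hS2 : IsPGroup 2 S := by rw [hS]; exact Lib.Cores.pCore_isPGroup (G := H) 2
  -- no involution of `H` commutes with `y`
  have hinv : ∀ t ∈ S, t * t = 1 → t * y = y * t → t = 1 := by
    intro t _ htt hty
    by_contra ht1
    have hto : orderOf ((t : H) : Spor.Co2) = 2 := by
      refine orderOf_eq_prime ?_ fun h => ht1 (Subtype.ext h)
      rw [pow_two]
      exact congrArg Subtype.val htt
    apply co2_2_5 _ hto
    let A : Subgroup H := zpowers c ⊔ zpowers y
    have hAP : A ≤ (P0 : Subgroup H) := sup_le (zpowers_le.2 hcP) (zpowers_le.2 hyP)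
    obtain ⟨n, hn⟩ := (P0.isPGroup'.to_le hAP).exists_card_eq
    have hlt : zpowers c < A := by
      refine lt_of_le_of_ne le_sup_left fun h => hyc ?_
      rw [h]
      exact (le_sup_right : zpowers _ ≤ A) (mem_zpowers _)
    have h1 : 5 < Nat.card A := by
      have h2 : Nat.card (zpowers c) < Nat.card A := by
        refine lt_of_le_of_ne (card_le_of_le hlt.le) fun h => hlt.ne ?_
        exact eq_of_le_of_card_ge hlt.le h.symm.le
      rwa [Nat.card_zpowers, hc5] at h2
    have h2 : 2 ≤ n := by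
      by_contra hcon
      rw [hn] at h1
      have h3 : 5 ^ n ≤ 5 ^ 1 := Nat.pow_le_pow_right (by norm_num) (by omega)
      omega
    have h3 : A.map H.subtype ≤ centralizer ({((t : H) : Spor.Co2)} : Set Spor.Co2) := by
      rw [Subgroup.map_le_iff_le_comap]
      refine sup_le (zpowers_le.2 ?_) (zpowers_le.2 ?_)
      · rw [mem_comap, mem_centralizer_singleton_iff]
        exact (congrArg Subtype.val (hcc t)).symm
      · rw [mem_comap, mem_centralizer_singleton_iff]
        exact (congrArg Subtype.val hty).symm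
    have h4 : Nat.card ↥(A.map H.subtype) = 5 ^ n := by rw [Subgroup.card_map_of_injective H.subtype_injective, hn]
    have h5 := card_dvd_of_le h3
    rw [h4] at h5
    exact (pow_dvd_pow 5 h2).trans h5
  have hfree := free_of_involutions hS2 hinv
  have hyS : ∀ g ∈ S, y * g * y⁻¹ ∈ S := fun g hg => hSn.conj_mem g hg y
  obtain ⟨n, hyn⟩ := P0.isPGroup' ⟨y, hyP⟩
  have hyn' : y ^ 5 ^ n = 1 := congrArg Subtype.val hyn
  rcases dim_cases hφ hv hfix hc5 with h4 | h8
  · -- dimension four
    have hact := triv_of_four hv hfix hcc h4 (h := y) hy5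
    -- the elements of `S` are commutators
    have hcomm : ∀ s ∈ S, ∃ u ∈ S, s = u⁻¹ * (y * u * y⁻¹) := by
      let ψ : S → S := fun u => ⟨(u : H)⁻¹ * (y * u * y⁻¹), S.mul_mem (S.inv_mem u.2) (hyS u u.2)⟩
      have hψ : Function.Injective ψ := by
        intro a b hab
        have h1 : (a : H)⁻¹ * (y * a * y⁻¹) = (b : H)⁻¹ * (y * b * y⁻¹) := congrArg Subtype.val hab
        have h2 : (b : H) * (a : H)⁻¹ * y = y * ((b : H) * (a : H)⁻¹) := by
          have h3 : (b : H) * (a : H)⁻¹ * (y * a * y⁻¹) = y * b * y⁻¹ := by rw [mul_assoc, h1]; group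
          calc (b : H) * (a : H)⁻¹ * y = (b : H) * (a : H)⁻¹ * (y * a * y⁻¹) * (y * (a : H)⁻¹) := by group
            _ = y * b * y⁻¹ * (y * (a : H)⁻¹) := by rw [h3]
            _ = y * ((b : H) * (a : H)⁻¹) := by group
        have h3 := hfree _ (S.mul_mem b.2 (S.inv_mem a.2)) h2
        exact (Subtype.ext (mul_inv_eq_one.1 h3)).symm
      intro s hs
      obtain ⟨u, hu⟩ := (Finite.injective_iff_surjective.1 hψ) ⟨s, hs⟩
      exact ⟨u, u.2, (congrArg Subtype.val hu).symm⟩
    have hStriv : ∀ s ∈ S, ∀ u ∈ fix (rep (φ c)), rep (φ s) u = u := by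
      intro s hs u hu
      obtain ⟨w, -, rfl⟩ := hcomm s hs
      have hst : ∀ h : H, rep (φ h) u ∈ fix (rep (φ c)) := by
        intro h
        have h1 : Commute (rep (φ c)) (rep (φ h)) := ((show Commute c h from (hcc h).symm).map φ).map rep
        exact Rat.fix_comm h1 u hu
      have hyi : ∀ u' ∈ fix (rep (φ c)), rep (φ y⁻¹) u' = u' := by
        intro u' hu'
        have h1 := congrArg (rep (φ y⁻¹)) (hact u' hu')
        rw [← Module.End.mul_apply, ← map_mul, ← map_mul, inv_mul_cancel, map_one, map_one] at h1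
        exact h1.symm
      rw [map_mul, map_mul, map_mul, map_mul, map_mul, map_mul, Module.End.mul_apply, Module.End.mul_apply,
        Module.End.mul_apply, hyi u hu, hact _ (hst w), ← Module.End.mul_apply, ← map_mul, ← map_mul, inv_mul_cancel,
        map_one, map_one]
      rfl
    -- a fixed vector
    have hcx : (φ c) ^ 5 = 1 := by rw [← map_pow, ← hc5, pow_orderOf_eq_one, map_one]
    obtain ⟨w, hw, hd, hxw⟩ := exists_w norm_leechU hcx (hfix c)
    let M : Subgroup Co0 := MulAction.stabilizer Co0 Spor.leechU ⊓ MulAction.stabilizer Co0 w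
    have hxM : φ c ∈ M := ⟨MulAction.mem_stabilizer_iff.2 (hfix c), MulAction.mem_stabilizer_iff.2 hxw⟩
    have hfin0 : Finite Co0 := PreUniqCo.Rows.finite_co0
    have h4M := CpAut.SmallP.McL.not_four (isoMcL norm_leechU hw hd) (x := (⟨φ c, hxM⟩ : ↥M))
      ((Subgroup.orderOf_mk _ hxM).trans ((orderOf_injective φ hφ c).trans hc5))
    have hSM : ∀ s ∈ S, φ s ∈ M := by
      intro s hs
      refine ⟨MulAction.mem_stabilizer_iff.2 (hfix s), MulAction.mem_stabilizer_iff.2 ?_⟩
      have h1 := hStriv s hs (tau w) (mem_fix_tau.2 hxw)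
      rw [rep_tau] at h1
      exact tau_injective h1
    let ψ : S →* ↥(centralizer ({(⟨φ c, hxM⟩ : ↥M)} : Set ↥M)) :=
      { toFun := fun s => ⟨⟨φ s, hSM s s.2⟩, by
          rw [mem_centralizer_singleton_iff]
          refine Subtype.ext ?_
          show φ s * φ c = φ c * φ s
          rw [← map_mul, hcc, map_mul]⟩
        map_one' := Subtype.ext (Subtype.ext (map_one φ))
        map_mul' := fun a b => Subtype.ext (Subtype.ext (map_mul φ (a : H) (b : H))) }
    have hψ : Function.Injective ψ := by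
      intro a b hab
      have h1 : φ a = φ b := congrArg (fun k : ↥(centralizer ({(⟨φ c, hxM⟩ : ↥M)} : Set ↥M)) => ((k : ↥M) : Co0)) hab
      exact Subtype.ext (hφ h1)
    have h4S : ¬ 4 ∣ Nat.card S := fun h => h4M (h.trans (Subgroup.card_dvd_of_injective ψ hψ))
    obtain ⟨k, hk⟩ := hS2.exists_card_eq
    have hk1 : k = 1 := by
      have h1 : k < 2 := by
        by_contra hcon
        apply h4S
        rw [hk]
        exact pow_dvd_pow 2 (show 2 ≤ k by omega)
      have h2 : k ≠ 0 := by
        rintro rfl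
        rw [pow_zero, Subgroup.card_eq_one] at hk
        exact hne hk
      omega
    rw [hk1, pow_one] at hk
    -- `S` of order two is central
    obtain ⟨s0, hs0⟩ := Subgroup.ne_bot_iff_exists_ne_one.1 hne
    obtain ⟨s, hs, hs1⟩ : ∃ s ∈ S, s ≠ 1 := ⟨(s0 : H), s0.2, fun h => hs0 (Subtype.ext h)⟩
    apply hs1
    apply hfree s hs
    have h1 : y * s * y⁻¹ = s := by
      have h2 : ∀ a ∈ S, a = 1 ∨ a = s := by
        intro a ha
        by_contra hcon
        push Not at hcon
        have h3 : ({1, s, a} : Finset H).card = 3 := by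
          rw [Finset.card_eq_three]
          exact ⟨1, s, a, hs1.symm, hcon.1.symm, hcon.2.symm, rfl⟩
        have h4 : (({1, s, a} : Finset H) : Set H) ⊆ S := by
          intro b hb
          simp only [Finset.coe_insert, Finset.coe_singleton, Set.mem_insert_iff, Set.mem_singleton_iff] at hb
          rcases hb with rfl | rfl | rfl
          · exact one_mem S
          · exact hs
          · exact ha
        have h5 := Set.ncard_le_ncard h4 (Set.toFinite _)
        rw [Set.ncard_coe_finset, h3] at h5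
        have h6 : (S : Set H).ncard = 2 := by
          rw [← hk]
          exact (Nat.card_coe_set_eq _).symm
        omega
      rcases h2 _ (hyS s hs) with h3 | h3
      · exfalso
        apply hs1
        calc s = y⁻¹ * (y * s * y⁻¹) * y := by group
          _ = 1 := by rw [h3]; group
      · exact h3
    calc s * y = (y * s * y⁻¹) * y := by rw [h1]
      _ = y * s := by group
  · -- dimension eight
    have h1 := two_group hφ hv hfix hc5 hcc h8 hyn' hS2 (by
      rw [mem_normalizer_iff]
      intro g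
      constructor
      · exact fun hg => hyS g hg
      · intro hg
        have := hSn.conj_mem _ hg y⁻¹
        have h2 : y⁻¹ * (y * g * y⁻¹) * y⁻¹⁻¹ = g := by group
        rwa [h2] at this)
    apply hne
    rw [eq_bot_iff]
    intro s hs
    rw [mem_bot]
    exact hfree s hs (mem_centralizer_singleton_iff.1 (h1 hs))

end Cfsg.Agent.H763.Wk.CoTwo
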