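import Cfsg.Agent.H509.WeakNB
import Cfsg.Agent.CpAut.TwoAbs

/-!
# S4095 at the prime 2: groups of characteristic 2 type (helper763)

* `charTwo_cent` : in a finite group of characteristic 2 type the centralizers of the 2-elements `x ≠ 1` are of
  characteristic 2;
* `row_of_charTwo` : `Base L`, all automorphisms inner, two 2-blocks, characteristic 2 type and `FactA L` give the row of
  `L` at the prime 2.
-/

set_option autoImplicit false

namespace Cfsg.Agent.H763.Wk

open Subgroup Cfsg Cfsg.Agent.H509.Weak Cfsg.Agent.H516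

universe u

/-- the centralizer of a 2-element is of characteristic 2 -/
theorem charTwo_cent {L : Type*} [Group L] [Finite L] (h : IsCharacteristicTwoType L) {x : L} (hx1 : x ≠ 1) {n : ℕ}
    (hx : x ^ 2 ^ n = 1) : IsOfCharacteristicTwo ↥(centralizer ({x} : Set L)) := by
  have hp : IsPGroup 2 ↥(zpowers x) := isPGroup_zpowers hx
  have h1 : zpowers x ≠ ⊥ := fun h => hx1 (zpowers_eq_bot.1 h)
  have h2 := h.2 (zpowers x) hp h1
  have hcz : centralizer ({x} : Set L) = centralizer (zpowers x : Set L) := by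
    rw [zpowers_eq_closure, centralizer_closure]
  have hle : centralizer ({x} : Set L) ≤ normalizer (zpowers x : Set L) := by
    rw [hcz]
    exact centralizer_le_normalizer _
  have hn : ((centralizer ({x} : Set L)).subgroupOf (normalizer (zpowers x : Set L))).Normal := by
    refine ⟨fun g hg m => ?_⟩
    rw [mem_subgroupOf] at hg ⊢
    have hm := m.2
    rw [hcz] at hg ⊢
    intro z hz
    have h3 : (m : L)⁻¹ * z * (m : L) ∈ zpowers x := by
      have := (mem_normalizer_iff.1 (inv_mem hm) z).1 hz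
      simpa using this
    have h4 := hg _ h3
    change z * ((m : L) * (g : L) * (m : L)⁻¹) = (m : L) * (g : L) * (m : L)⁻¹ * z
    have h5 : (m : L)⁻¹ * z * (m : L) * (g : L) = (g : L) * ((m : L)⁻¹ * z * (m : L)) := h4
    calc z * ((m : L) * (g : L) * (m : L)⁻¹) = (m : L) * ((m : L)⁻¹ * z * (m : L) * (g : L)) * (m : L)⁻¹ := by group
      _ = (m : L) * ((g : L) * ((m : L)⁻¹ * z * (m : L))) * (m : L)⁻¹ := by rw [h5]
      _ = (m : L) * (g : L) * (m : L)⁻¹ * z := by group
  have h3 := CpAut.TwoAbs.ct_of_normal h2 ((centralizer ({x} : Set L)).subgroupOf (normalizer (zpowers x : Set L)))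
  exact CpAut.TwoAbs.ct_congr (subgroupOfEquivOfLe hle) h3

/-- **groups of characteristic 2 type without outer automorphisms** -/
theorem row_of_charTwo {L : Type u} [Group L] [Finite L] (B : Base L) (hin : ∀ α : MulAut L, ∃ k : L, α = MulAut.conj k)
    (hnb : H526.OB.NB L) (hc : IsCharacteristicTwoType L) (hA : FactA L) : Row 2 L := by
  rw [row_iff]
  intro a ha
  by_contra hne
  have W : Wk a := { B with bad := ha, ne := hne }
  obtain ⟨n, hn⟩ := W.two_of_factA hA
  obtain ⟨x, hx⟩ := hin a
  have hx1 : x ≠ 1 := by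
    rintro rfl
    exact hne (by rw [hx, map_one])
  have hxn : x ^ 2 ^ n = 1 := by
    have h1 : MulAut.conj (x ^ 2 ^ n) = 1 := by rw [map_pow, ← hx, hn]
    have h2 : x ^ 2 ^ n ∈ center L := by
      rw [mem_center_iff]
      intro g
      have h3 : MulAut.conj (x ^ 2 ^ n) g = g := by rw [h1]; rfl
      rw [MulAut.conj_apply, mul_inv_eq_iff_eq_mul] at h3
      exact h3.symm
    rwa [B.center, mem_bot] at h2
  have h2 : ∃ k : ℕ, orderOf x = 2 ^ k := by
    obtain ⟨k, -, hk⟩ := (Nat.dvd_prime_pow Nat.prime_two).1 (orderOf_dvd_of_pow_eq_one hxn)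
    exact ⟨k, hk⟩
  have hct := charTwo_cent hc hx1 hxn
  exact W.false_of_constrained hx h2 hnb (CpAut.TwoAbs.core_of_ct hct) hct

end Cfsg.Agent.H763.Wk
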