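import Cfsg.Agent.H763.Wk.CoTwoThree
import Cfsg.Agent.H763.Wk.CoTwoFive
import Cfsg.Agent.H763.Wk.CharTwo
import Cfsg.Agent.H220.S4096.RowCo2
import Cfsg.Agent.H171.Odd.ConwayA
import Cfsg.Agent.H393.Iso.Co2
import Cfsg.Agent.H547.SelfCent.Conway
import Cfsg.Agent.H663.ObCo2
import Cfsg.Agent.SevenCases.SporCo2
import Cfsg.Agent.KFacts.CoTwo.Main

/-!
# S4095 at the prime 2: the row `Co2` (helper763)

`row` : the row of `Co₂` at the prime 2.
-/

set_option autoImplicit false

namespace Cfsg.Agent.H763.Wk.CoTwo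

open Subgroup Cfsg Cfsg.Agent.H509.Weak Cfsg.Agent.H516
open Cfsg.Agent.H220.S4096.RowCo2 (card_eq prime_cases)
open Cfsg.Agent.H149.Sp.CopCo (f2 f2_inj f2_fix finite_co2)

universe u

/-- order seven -/
theorem cent_seven [Finite Spor.Co2] {x : Spor.Co2} (hx : orderOf x = 7) :
    Nat.card ↥(centralizer ({x} : Set Spor.Co2)) < 729 := by
  have h7 : orderOf (f2 x) = 7 := (orderOf_injective f2 f2_inj x).trans hx
  have hfin := PreUniqCo.Rows.finite_co0
  obtain ⟨h1, h2⟩ := H171.Odd.Conway.cent_seven h7 PreUniqCo.Rows.leechU_ne (f2_fix x)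
  have h3 := H171.Odd.cent_dvd f2 f2_inj x
  have h4 : ¬ 49 ∣ Nat.card ↥(centralizer ({x} : Set Spor.Co2)) := by
    intro h
    have h5 := h.trans (card_subgroup_dvd_card _)
    rw [card_eq (L := Spor.Co2) ⟨MulEquiv.refl _⟩] at h5
    revert h5
    norm_num
  obtain ⟨k, hk⟩ := h3
  have h5 : 7 ∣ k := by
    by_contra h6
    have h7 : Nat.Coprime 49 k := by
      rw [show 49 = 7 ^ 2 by norm_num]
      exact Nat.Coprime.pow_left 2 ((Nat.Prime.coprime_iff_not_dvd (by norm_num)).2 h6)
    rw [hk] at h1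
    exact h4 (h7.dvd_of_dvd_mul_right h1)
  obtain ⟨l, rfl⟩ := h5
  have h6 : 0 < Nat.card ↥(centralizer ({f2 x} : Set Co0)) := Nat.card_pos
  have h8 : l ≠ 0 := by
    rintro rfl
    rw [hk] at h6
    simp at h6
  have h9 : 7 ≤ 7 * l := by omega
  have h10 := Nat.mul_le_mul_left (Nat.card ↥(centralizer ({x} : Set Spor.Co2))) h9
  rw [← hk] at h10
  omega

/-- order eleven -/
theorem cent_eleven [Finite Spor.Co2] {x : Spor.Co2} (hx : orderOf x = 11) :
    Nat.card ↥(centralizer ({x} : Set Spor.Co2)) < 729 := by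
  have h7 : orderOf (f2 x) = 11 := (orderOf_injective f2 f2_inj x).trans hx
  have hfin := PreUniqCo.Rows.finite_co0
  have h1 := H171.Odd.Conway.cent_eleven h7
  have h3 := Nat.le_of_dvd Nat.card_pos (H171.Odd.cent_dvd f2 f2_inj x)
  omega

/-- order twenty-three -/
theorem cent_twentythree [Finite Spor.Co2] {x : Spor.Co2} (hx : orderOf x = 23) :
    Nat.card ↥(centralizer ({x} : Set Spor.Co2)) < 729 := by
  rw [H547.SelfCent.Conway.co2 ⟨MulEquiv.refl _⟩ (H393.Iso.na_co2 ⟨MulEquiv.refl _⟩) hx]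
  norm_num

/-- **the first fact for `Co2`** -/
theorem factA {L : Type u} [Group L] [Finite L] (h : Cfsg.Spor.IsoCo2 L) : FactA L := by
  have hfin := finite_co2
  have h3f : Fact (Nat.Prime 3) := ⟨Nat.prime_three⟩
  obtain ⟨Q⟩ : Nonempty (Sylow 3 L) := inferInstance
  have hcL := card_eq h
  have hQ : Nat.card (Q : Subgroup L) = 729 := by
    rw [Q.card_eq_multiplicity, hcL]
    have : Nat.factorization (2 ^ 18 * (3 ^ 6 * 5 ^ 3 * 7 * 11 * 23)) 3 = 6 := by
      rw [show 2 ^ 18 * (3 ^ 6 * 5 ^ 3 * 7 * 11 * 23) = 3 ^ 6 * (2 ^ 18 * 5 ^ 3 * 7 * 11 * 23) by norm_num,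
        Nat.factorization_mul (by norm_num) (by norm_num), Finsupp.add_apply, Nat.Prime.factorization_pow Nat.prime_three,
        Finsupp.single_eq_same, Nat.factorization_eq_zero_of_not_dvd (by norm_num)]
    rw [this]
    norm_num
  refine ⟨Q, by rw [hQ]; decide, fun w hw hw2 => ?_⟩
  obtain ⟨e⟩ := h
  -- transport to the model
  have hoe : orderOf (e w) = orderOf w := MulEquiv.orderOf_eq e w
  let E : ↥(centralizer ({w} : Set L)) ≃* ↥(centralizer ({e w} : Set Spor.Co2)) :=
    (e.subgroupMap (centralizer ({w} : Set L))).trans (MulEquiv.subgroupCongr (by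
      ext g
      rw [mem_centralizer_singleton_iff]
      constructor
      · rintro ⟨s, hs, rfl⟩
        have h1 := mem_centralizer_singleton_iff.1 hs
        change e s * e w = e w * e s
        rw [← map_mul, h1, map_mul]
      · intro hg
        refine ⟨e.symm g, ?_, e.apply_symm_apply g⟩
        change e.symm g ∈ centralizer ({w} : Set L)
        rw [mem_centralizer_singleton_iff]
        apply e.injective
        rw [map_mul, map_mul, e.apply_symm_apply, hg]))
  have hcE : Nat.card ↥(centralizer ({w} : Set L)) = Nat.card ↥(centralizer ({e w} : Set Spor.Co2)) :=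
    Nat.card_congr E.toEquiv
  have hd : orderOf w ∣ 2 ^ 18 * (3 ^ 6 * 5 ^ 3 * 7 * 11 * 23) := by
    rw [← hcL]
    exact orderOf_dvd_natCard w
  rcases prime_cases hw hw2 hd with h3 | h5 | h7 | h11 | h13 | h23
  · left
    exact pCore_equiv E.symm (core_three (hoe.trans h3))
  · left
    exact pCore_equiv E.symm (core_five (hoe.trans h5))
  · right
    rw [hQ, hcE]
    exact cent_seven (hoe.trans h7)
  · right
    rw [hQ, hcE]
    exact cent_eleven (hoe.trans h11)
  · exfalso
    rw [h13] at hd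
    revert hd
    norm_num
  · right
    rw [hQ, hcE]
    exact cent_twentythree (hoe.trans h23)

/-- **the row of `Co2` at the prime 2** -/
theorem row {L : Type u} [Group L] [Finite L] (h : Cfsg.Spor.IsoCo2 L) (B : Cfsg.Agent.H509.Weak.Base L) :
    Cfsg.Agent.H516.Row 2 L := by
  refine row_of_charTwo B (fun α => ?_) (H663.ObCo2.nb_co2 h) (SevenCases.SporCo2.charTwo h) (factA h)
  obtain ⟨e⟩ := h
  exact KFacts.CoTwo.Main.allInner_iso e α

end Cfsg.Agent.H763.Wk.CoTwo
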