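import Cfsg.Agent.Sigma.USix
import Cfsg.Agent.BpSpor.CoTwoRow

/-!
# S4095, `Co2`: the centralizers of elements of order three of `U₆(2)` and `Co2` have 3-rank at least four (helper763)
-/

set_option autoImplicit false

namespace Cfsg.Agent.H763.Wk.USix

open Cfsg Subgroup Matrix Cfsg.Agent.LieClassical.HermBasic
  Cfsg.Agent.LieClassical.HermSiegel Cfsg.Agent.LieClassical.SUBasic Cfsg.Agent.ClassicalGeometry.HermOrtho
  Cfsg.Agent.ClassicalGeometry.PSUAutBasic Cfsg.Agent.Sigma.Psu Cfsg.Agent.Sigma.Tools Cfsg.Agent.Sigma.USix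
open Cfsg.Agent.LThreeAll.Unit (Iso3)
open Cfsg.Agent.ClassicalGeometry.PSUAutCount (gm gm_mul gm_one gm_mul_inv gm_inv_mul gm_mulVec_inv gm_inv_mulVec
  herm_gm semiConj toAut toAut_pr)
open Cfsg.Agent.Schreier.PSU (act_semiConj_one)

variable {F : Type} [Field F] [Fintype F]

/-- four independent commuting diagonal elements -/
theorem four (hF : Fintype.card F = 2 ^ 2) : ∃ (h : Fin 4 → SU 6 F 2) (d : Fin 4 → Fin 6 → F),
    (∀ i v j, act (h i) v j = d i j * v j) ∧ (∀ i, h i ^ 3 = 1) ∧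
    ∀ i j k l : Fin 3, pr 6 F 2 (h 0) ^ (i : ℕ) * pr 6 F 2 (h 1) ^ (j : ℕ) * pr 6 F 2 (h 2) ^ (k : ℕ) *
      pr 6 F 2 (h 3) ^ (l : ℕ) = 1 → (i : ℕ) = 0 ∧ (j : ℕ) = 0 ∧ (k : ℕ) = 0 ∧ (l : ℕ) = 0 := by
  obtain ⟨p, hp, -, a, ha3, hap, ha1⟩ := exists_elt (F := F) (q := 2) hF even_two 1 (by norm_num)
  rw [pow_one] at ha1
  change a ^ 3 = 1 at ha3
  have ha0 : a ≠ 0 := by
    rintro rfl
    norm_num at ha3
  let h : Fin 4 → SU 6 F 2 := fun i => suDiag 2 (dv a i) (prod_dv ha0 i) (dv_pow ha3 i)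
  have hact : ∀ i, ∀ m : ℕ, ∀ v j, act (h i ^ m) v j = dv a i j ^ m * v j := by
    intro i m
    induction m with
    | zero => intro v j; rw [pow_zero, act_one, pow_zero, one_mul]
    | succ m ih => intro v j; rw [pow_succ, act_mul, ih, act_diag, pow_succ, mul_assoc]
  refine ⟨h, dv a, ?_, ?_, ?_⟩
  · intro i v j
    have := hact i 1 v j
    rwa [pow_one, pow_one] at this
  · intro i
    apply ext_act
    intro v
    funext j
    rw [hact, act_one, show (3 : ℕ) = 2 + 1 from rfl, dv_pow ha3, one_mul]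
  · intro i j k l hprod
    simp only [← map_pow, ← map_mul] at hprod
    rw [pr_eq_one_iff] at hprod
    obtain ⟨c, -, -, hc⟩ := exists_scalar_of_mem_center hF (by norm_num) hprod
    have hev : ∀ m : Fin 6, dv a 0 m ^ (i : ℕ) * (dv a 1 m ^ (j : ℕ) * (dv a 2 m ^ (k : ℕ) * dv a 3 m ^ (l : ℕ))) = c := by
      intro m
      have h2 := congrFun (hc (fun _ => 1)) m
      simp only [act_mul, hact, Pi.smul_apply, smul_eq_mul, mul_one] at h2
      exact h2
    have hc1 : c = 1 := by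
      rw [← hev 5]
      simp [dv, Fin.ext_iff]
    have key : ∀ n : Fin 3, a ^ (n : ℕ) = 1 → (n : ℕ) = 0 := by
      intro n hn
      have h3 : orderOf a = 3 := by
        have : Fact (Nat.Prime 3) := ⟨Nat.prime_three⟩
        exact orderOf_eq_prime ha3 ha1
      have h4 := orderOf_dvd_of_pow_eq_one hn
      rw [h3] at h4
      have := n.2
      omega
    refine ⟨key i ?_, key j ?_, key k ?_, key l ?_⟩
    · have := hev 0
      rw [hc1] at this
      simpa [dv, Fin.ext_iff] using this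
    · have := hev 1
      rw [hc1] at this
      simpa [dv, Fin.ext_iff] using this
    · have := hev 2
      rw [hc1] at this
      simpa [dv, Fin.ext_iff] using this
    · have := hev 3
      rw [hc1] at this
      simpa [dv, Fin.ext_iff] using this

/-- **The centralizer of an element of order three of `U₆(2)` has 3-rank at least four.** -/
theorem rank_cent (hF : Fintype.card F = 2 ^ 2) {x : PSU 6 F 2} (hx : x ^ 3 = 1) :
    PRankAtLeast 3 4 ↥(centralizer ({x} : Set (PSU 6 F 2))) := by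
  obtain ⟨X, rfl⟩ := pr_surjective (n := 6) (F := F) (q := 2) x
  rw [← map_pow] at hx
  have h1 : X ^ 3 ∈ Subgroup.center (SU 6 F 2) := ClassicalGeometry.PSUAutBasic.pr_eq_one_iff.1 hx
  obtain ⟨c, -, hc, hcv⟩ := ClassicalGeometry.PSUAutBasic.exists_scalar_of_mem_center hF (by norm_num) h1
  have hc3 : c ^ 3 = 1 := by rw [← hc]; ring
  have hX3 : ∀ v, act X (act X (act X v)) = c • v := by
    intro v
    rw [← hcv, pow_succ, pow_two, act_mul, act_mul]
  have hc1 := CpAutCoTwo.Unit.cube_eq_one hF hc3 hX3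
  let T : (Fin 6 → F) →ₗ[F] (Fin 6 → F) := Matrix.mulVecLin (mat X)
  have hT : Iso3 T := ⟨fun u v => herm_act X u v, fun v => by
    change act X (act X (act X v)) = v
    rw [hX3, hc1, one_smul]⟩
  obtain ⟨b, hb, hbe⟩ := CpAutCoTwo.Unit.exists_eigenbasis hF hT
  choose a ha using hbe
  obtain ⟨g, hg, hgb⟩ := exists_GU_of_orthonormal hF hb
  let P : GU 6 F 2 := ⟨g, hg⟩
  have hP : ∀ v, gm P *ᵥ v = ∑ i, v i • b i := hgb
  have hXP : ∀ v, act X (gm P *ᵥ v) = gm P *ᵥ (Matrix.diagonal a *ᵥ v) := by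
    intro v
    rw [hP, hP]
    change T _ = _
    rw [map_sum]
    refine Finset.sum_congr rfl fun i _ => ?_
    rw [map_smul, ha, Matrix.mulVec_diagonal, smul_smul, mul_comm]
  obtain ⟨h, d, hd, h3, hind⟩ := four (F := F) hF
  have hfin : Finite (PSU 6 F 2) := Finite.of_surjective _ (pr_surjective (n := 6) (F := F) (q := 2))
  have hd' : ∀ i v, act (h i) v = fun j => d i j * v j := fun i v => funext fun j => hd i v j
  have hcomm : ∀ i j, h i * h j = h j * h i := by
    intro i j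
    apply ext_act
    intro v
    funext k
    rw [act_mul, act_mul, hd, hd, hd, hd]
    ring
  have hcX : ∀ i, semiConj P 1 (h i) * X = X * semiConj P 1 (h i) := by
    intro i
    apply ext_act
    intro v
    obtain ⟨w, rfl⟩ : ∃ w, gm P *ᵥ w = v := ⟨gm P⁻¹ *ᵥ v, gm_mulVec_inv P v⟩
    rw [act_mul, act_mul, hXP, act_semiConj_one, act_semiConj_one, hXP]
    congr 1
    funext k
    rw [hd, Matrix.mulVec_diagonal, Matrix.mulVec_diagonal, hd]
    ring
  have hfC : Finite ↥(centralizer ({pr 6 F 2 X} : Set (PSU 6 F 2))) := inferInstance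
  refine elem_of_four (by norm_num) (fun i => toAut P 1 (pr 6 F 2 (h i))) ?_ ?_ ?_
    (centralizer ({pr 6 F 2 X} : Set (PSU 6 F 2))) ?_
  · intro i j
    show toAut P 1 (pr 6 F 2 (h i)) * toAut P 1 (pr 6 F 2 (h j)) =
      toAut P 1 (pr 6 F 2 (h j)) * toAut P 1 (pr 6 F 2 (h i))
    rw [← map_mul, ← map_mul, ← map_mul, ← map_mul, hcomm]
  · intro i
    show toAut P 1 (pr 6 F 2 (h i)) ^ 3 = 1
    rw [← map_pow, ← map_pow, h3, map_one, map_one]
  · intro i j k l hprod
    apply hind i j k l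
    apply (toAut P 1).injective
    rw [map_one, map_mul, map_mul, map_mul, map_pow, map_pow, map_pow, map_pow]
    exact hprod
  · intro i
    show toAut P 1 (pr 6 F 2 (h i)) ∈ _
    have e : toAut P 1 (pr 6 F 2 (h i)) = pr 6 F 2 (semiConj P 1 (h i)) := toAut_pr P 1 (h i)
    rw [mem_centralizer_singleton_iff, e, ← map_mul, ← map_mul, hcX]

end Cfsg.Agent.H763.Wk.USix
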